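import Groth.Agent.PurIso.Specialize
import Groth.Agent.ConsPropLib.PointwiseProps
import Groth.Agent.S1386
import Groth.Prelude.Def_CInt
import Mathlib.AlgebraicGeometry.Morphisms.FlatRank
import Mathlib.AlgebraicGeometry.ZariskisMainTheorem

/-! Global statements about the iso locus of a morphism of flat families. -/

set_option autoImplicit false
set_option backward.isDefEq.respectTransparency false
set_option backward.isDefEq.respectTransparency.types false
set_option linter.style.haveILetI false
universe u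

open CategoryTheory CategoryTheory.Limits AlgebraicGeometry TopologicalSpace IsLocalRing Groth.Agent.MorLib

noncomputable section

namespace Groth.Agent.PurIso

variable {X Y S : Scheme.{u}} {f : X ⟶ Y} {h : Y ⟶ S}

/-- Restricting further a base change which is an isomorphism gives an isomorphism. -/
theorem isIso_pullback_snd_comp {V W : Scheme.{u}} (l : V ⟶ W) (j : W ⟶ Y) [IsIso (pullback.snd f j)] :
    IsIso (pullback.snd f (l ≫ j)) :=
  MorLib.Desc.of_two (MorphismProperty.isomorphisms Scheme)
    ((IsPullback.of_hasPullback (pullback.snd f j) l).paste_horiz (IsPullback.of_hasPullback f j))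
    (IsPullback.of_hasPullback f (l ≫ j)) (inferInstanceAs (IsIso (pullback.snd (pullback.snd f j) l)))

theorem isoOver_restrict_iff {T : Scheme.{u}} (ξ : T ⟶ S) (V : Y.Opens) :
    IsoOver (f ∣_ V) (V.ι ≫ h) ξ ↔
      IsIso (pullback.snd f (pullback.fst h ξ) ∣_ (pullback.fst h ξ ⁻¹ᵁ V)) := by
  rw [isoOver_iff_of_isPullback
    ((isPullback_morphismRestrict (pullback.fst h ξ) V).paste_vert (IsPullback.of_hasPullback h ξ))]
  have s1 := (IsPullback.of_hasPullback (f ∣_ V) (pullback.fst h ξ ∣_ V)).paste_horiz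
    (isPullback_morphismRestrict f V).flip
  rw [morphismRestrict_ι] at s1
  have s2 := (isPullback_morphismRestrict (pullback.snd f (pullback.fst h ξ))
    (pullback.fst h ξ ⁻¹ᵁ V)).flip.paste_horiz (IsPullback.of_hasPullback f (pullback.fst h ξ))
  exact ⟨fun hi => MorLib.Desc.of_two (MorphismProperty.isomorphisms Scheme) s1 s2 hi,
    fun hi => MorLib.Desc.of_two (MorphismProperty.isomorphisms Scheme) s2 s1 hi⟩

theorem isoOver_iff_forall_restrict {T : Scheme.{u}} (ξ : T ⟶ S) {ι : Type u} (V : ι → Y.Opens)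
    (hV : iSup V = ⊤) : IsoOver f h ξ ↔ ∀ i, IsoOver (f ∣_ V i) ((V i).ι ≫ h) ξ := by
  simp_rw [isoOver_restrict_iff]
  exact IsZariskiLocalAtTarget.iff_of_iSup_eq_top (P := MorphismProperty.isomorphisms Scheme) _
    (by rw [← Scheme.Hom.preimage_iSup, hV]; simp)

/-- The iso locus is stable under specialisation. -/
theorem isoOver_specializes [Smooth h] [IsProper f] [Flat (f ≫ h)] [LocallyOfFinitePresentation (f ≫ h)]
    (hpre : GeomPre (f ≫ h)) {s s' : S} (hs : s' ⤳ s) (hiso : IsoOver f h (S.fromSpecResidueField s')) :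
    IsoOver f h (S.fromSpecResidueField s) := by
  obtain ⟨_, ⟨W, hW, rfl⟩, hsW, -⟩ :=
    S.isBasis_affineOpens.exists_subset_of_mem_open (Set.mem_univ s) isOpen_univ
  let g : Spec Γ(S, W) ⟶ S := hW.fromSpec
  obtain ⟨t, ht⟩ : ∃ t, g t = s := (hW.range_fromSpec.symm ▸ hsW : s ∈ Set.range g)
  obtain ⟨t', ht'⟩ : ∃ t, g t = s' := (hW.range_fromSpec.symm ▸ hs.mem_open W.2 hsW : s' ∈ Set.range g)
  have htt : t' ⤳ t := g.isOpenEmbedding.isInducing.specializes_iff.1 (ht ▸ ht' ▸ hs)
  let h₁ := pullback.snd h g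
  let f₁ := pullback.snd f (pullback.fst h g)
  have hY : IsPullback (pullback.fst h g) h₁ h g := IsPullback.of_hasPullback h g
  have hX : IsPullback (pullback.fst f (pullback.fst h g)) f₁ f (pullback.fst h g) := IsPullback.of_hasPullback _ _
  have hZ := hX.paste_vert hY
  haveI : Smooth h₁ := MorphismProperty.pullback_snd _ _ inferInstance
  haveI : IsProper f₁ := MorphismProperty.pullback_snd _ _ inferInstance
  haveI : Flat (f₁ ≫ h₁) := MorphismProperty.of_isPullback hZ inferInstance
  haveI : LocallyOfFinitePresentation (f₁ ≫ h₁) := MorphismProperty.of_isPullback hZ inferInstance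
  have hpre₁ : GeomPre (f₁ ≫ h₁) := fun K _ ξ => by
    haveI := hpre K (ξ ≫ g)
    exact preirreducibleSpace_of_surjective ((IsPullback.of_hasPullback (f₁ ≫ h₁) ξ).paste_horiz hZ).isoPullback.inv
  have hpt : ∀ r, IsoOver f₁ h₁ ((Spec Γ(S, W)).fromSpecResidueField r) ↔
      IsoOver f h (S.fromSpecResidueField (g r)) := fun r => by
    rw [isoOver_baseChange hY hX]
    refine isoOver_iff_of_eq (K := (Spec Γ(S, W)).residueField r) (L := S.residueField (g r)) ?_
    rw [Scheme.Hom.comp_apply]
    exact (congrArg g (fromSpecResidueField_closed _ r)).trans (fromSpecResidueField_closed _ (g r)).symm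
  have hiso₁ : IsoOver f₁ h₁ ((Spec Γ(S, W)).fromSpecResidueField t') := (hpt t').2 (ht'.symm ▸ hiso)
  have key : IsoOver f₁ h₁ ((Spec Γ(S, W)).fromSpecResidueField t) := by
    have hsup : ⨆ V : (pullback h g).affineOpens, (V : (pullback h g).Opens) = ⊤ := iSup_affineOpens_eq_top _
    rw [isoOver_iff_forall_restrict _ _ hsup] at hiso₁ ⊢
    intro V
    haveI : IsAffine (V : (pullback h g).Opens).toScheme := V.2
    haveI : IsProper (f₁ ∣_ (V : (pullback h g).Opens)) := IsZariskiLocalAtTarget.restrict (inferInstanceAs (IsProper f₁)) _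
    have e : (f₁ ∣_ (V : (pullback h g).Opens)) ≫ (V : (pullback h g).Opens).ι ≫ h₁ =
        (f₁ ⁻¹ᵁ (V : (pullback h g).Opens)).ι ≫ f₁ ≫ h₁ := morphismRestrict_ι_assoc _ _ _
    haveI : Flat ((f₁ ∣_ (V : (pullback h g).Opens)) ≫ (V : (pullback h g).Opens).ι ≫ h₁) := by
      rw [e]; infer_instance
    haveI : LocallyOfFinitePresentation ((f₁ ∣_ (V : (pullback h g).Opens)) ≫ (V : (pullback h g).Opens).ι ≫ h₁) := by
      rw [e]; infer_instance
    exact isoOver_specializes_affine (f₁ ∣_ (V : (pullback h g).Opens)) ((V : (pullback h g).Opens).ι ≫ h₁)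
      (e ▸ hpre₁.comp_openImmersion (f₁ ⁻¹ᵁ (V : (pullback h g).Opens)).ι) htt (hiso₁ V)
  exact ht ▸ (hpt t).1 key

theorem cintFiberMap_eq (s : S) : CInt.fiberMap f h s = MoreMor.fiberMap f h s := by
  apply pullback.hom_ext
  · simp only [CInt.fiberMap, MoreMor.fiberMap, pullback.lift_fst]; rfl
  · simp only [CInt.fiberMap, MoreMor.fiberMap, pullback.lift_snd]; rfl

theorem isIso_fiberMap_iff (s : S) :
    IsIso (MoreMor.fiberMap f h s) ↔ IsoOver f h (S.fromSpecResidueField s) :=
  ⟨fun hi => MorLib.Desc.of_two (MorphismProperty.isomorphisms Scheme) (ConsPropLib.isPullback_fiberMap f h s)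
      (IsPullback.of_hasPullback f (pullback.fst h (S.fromSpecResidueField s))) hi,
    fun hi => MorLib.Desc.of_two (MorphismProperty.isomorphisms Scheme)
      (IsPullback.of_hasPullback f (pullback.fst h (S.fromSpecResidueField s)))
      (ConsPropLib.isPullback_fiberMap f h s) hi⟩

theorem isIso_cintFiberMap_iff (s : S) :
    IsIso (CInt.fiberMap f h s) ↔ IsoOver f h (S.fromSpecResidueField s) := by
  rw [cintFiberMap_eq]; exact isIso_fiberMap_iff s

/-- Over a point of the iso locus the fibres of `f` are points. -/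
theorem isIso_fibre_of_isoOver (y : Y) (hy : IsoOver f h (S.fromSpecResidueField (h y))) :
    IsIso (pullback.snd f (Y.fromSpecResidueField y)) := by
  haveI : IsIso (pullback.snd f (pullback.fst h (S.fromSpecResidueField (h y)))) := hy
  let l : Spec (Y.residueField y) ⟶ pullback h (S.fromSpecResidueField (h y)) :=
    pullback.lift (Y.fromSpecResidueField y) (Spec.map (h.residueFieldMap y))
      (h.SpecMap_residueFieldMap_fromSpecResidueField y).symm
  have := isIso_pullback_snd_comp (f := f) l (pullback.fst h (S.fromSpecResidueField (h y)))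
  rwa [pullback.lift_fst] at this

theorem preimage_singleton_subsingleton (y : Y) [IsIso (pullback.snd f (Y.fromSpecResidueField y))] :
    (f ⁻¹' {y}).Subsingleton := by
  rintro a ha b hb
  obtain ⟨za, hza, -⟩ := Scheme.Pullback.exists_preimage_pullback (f := f) (g := Y.fromSpecResidueField y) a
    (closedPoint _) (ha.trans (fromSpecResidueField_closed Y y).symm)
  obtain ⟨zb, hzb, -⟩ := Scheme.Pullback.exists_preimage_pullback (f := f) (g := Y.fromSpecResidueField y) b
    (closedPoint _) (hb.trans (fromSpecResidueField_closed Y y).symm)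
  have e : za = zb := (pullback.snd f (Y.fromSpecResidueField y)).homeomorph.injective (Subsingleton.elim _ _)
  rw [← hza, ← hzb, e]

theorem flat_stalkMap_of_isoOver [LocallyOfFiniteType h] [Flat (f ≫ h)] [LocallyOfFinitePresentation (f ≫ h)]
    (x : X) (hx : IsoOver f h (S.fromSpecResidueField (h (f x)))) : (f.stalkMap x).hom.Flat := by
  haveI := (isIso_fiberMap_iff (f := f) (h := h) (h (f x))).2 hx
  exact (((Groth.Agent.S1386.result f h).1 x).1
    ⟨Flat.stalkMap _ x, Flat.stalkMap _ _⟩).2

/-- A morphism over which all fibres are isomorphisms is an isomorphism. -/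
theorem isIso_of_forall_isoOver [Smooth h] [IsProper f] [Flat (f ≫ h)] [LocallyOfFinitePresentation (f ≫ h)]
    (hall : ∀ s : S, IsoOver f h (S.fromSpecResidueField s)) : IsIso f := by
  haveI : LocallyOfFinitePresentation f := AlgSpPts.locallyOfFinitePresentation_of_comp f h
  haveI : Flat f := (Flat.iff_flat_stalkMap _).2 fun x => flat_stalkMap_of_isoOver x (hall _)
  have hfib : ∀ y, IsIso (pullback.snd f (Y.fromSpecResidueField y)) := fun y => isIso_fibre_of_isoOver y (hall _)
  haveI : LocallyQuasiFinite f := locallyQuasiFinite_iff_finite_preimage_singleton.2 fun y =>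
    haveI := hfib y
    (preimage_singleton_subsingleton y).finite
  haveI : IsFinite f := IsFinite.of_isProper_of_locallyQuasiFinite f
  rw [Scheme.Hom.isIso_iff_finrank_eq]
  ext y
  haveI := hfib y
  have e := Scheme.Hom.finrank_pullback_snd f (Y.fromSpecResidueField y) (closedPoint (Y.residueField y))
  rw [Scheme.Hom.finrank_eq_one_of_isIso, fromSpecResidueField_closed] at e
  exact e.symm

/-- Near a fibre over which it is an isomorphism, a morphism of proper flat families is an isomorphism. -/
theorem exists_isIso_restrict [Smooth h] [IsProper h] [IsProper f] [Flat (f ≫ h)]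
    [LocallyOfFinitePresentation (f ≫ h)] (s : S) (hs : IsoOver f h (S.fromSpecResidueField s)) :
    ∃ W : S.Opens, s ∈ W ∧ IsIso (f ∣_ (h ⁻¹ᵁ W)) := by
  haveI : LocallyOfFinitePresentation f := AlgSpPts.locallyOfFinitePresentation_of_comp f h
  let F : X.Opens := ⟨{x | (h.stalkMap (f x)).hom.Flat ∧ (f.stalkMap x).hom.Flat},
    (Groth.Agent.S1386.result f h).2⟩
  let G : X.Opens := F ⊓ f.quasiFiniteLocus
  let V : Y.Opens := ⟨(f '' (G : Set X)ᶜ)ᶜ, (f.isClosedMap _ G.2.isClosed_compl).isOpen_compl⟩
  have hfib : ∀ y : Y, h y = s → IsIso (pullback.snd f (Y.fromSpecResidueField y)) := fun y hy =>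
    isIso_fibre_of_isoOver y (hy.symm ▸ hs)
  have hYs : ∀ y : Y, h y = s → y ∈ V := by
    rintro y hy ⟨x, hx, rfl⟩
    refine hx ⟨⟨Flat.stalkMap h _, flat_stalkMap_of_isoOver x (hy.symm ▸ hs)⟩, ?_⟩
    haveI := hfib (f x) hy
    refine Scheme.Hom.quasiFiniteAt_iff_isOpen_singleton_asFiber.2 ?_
    haveI : Subsingleton ↥(f.fiber (f x)) :=
      (pullback.snd f (Y.fromSpecResidueField (f x))).homeomorph.injective.subsingleton
    exact isOpen_discrete _
  let fV := f ∣_ V
  haveI : IsProper fV := IsZariskiLocalAtTarget.restrict (inferInstanceAs (IsProper f)) _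
  haveI : LocallyOfFinitePresentation fV := IsZariskiLocalAtTarget.restrict (inferInstanceAs (LocallyOfFinitePresentation f)) _
  have hVG : f ⁻¹ᵁ V ≤ G := fun x hx => by
    by_contra hxG
    exact hx ⟨x, hxG, rfl⟩
  haveI : Flat fV := (Flat.iff_flat_stalkMap _).2 fun z => by
    have hz : (f.stalkMap z.1).hom.Flat := (hVG z.2).1.2
    exact (RingHom.Flat.respectsIso.arrow_mk_iso_iff (morphismRestrictStalkMap f V z)).2 hz
  haveI : LocallyQuasiFinite fV := by
    rw [← Scheme.Hom.quasiFiniteLocus_eq_top_iff, eq_top_iff]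
    intro z _
    have hz : f.QuasiFiniteAt z.1 := (hVG z.2).2
    rw [Scheme.Hom.mem_quasiFiniteLocus, ← Scheme.Hom.quasiFiniteAt_comp_iff (g := V.ι),
      morphismRestrict_ι, Scheme.Hom.quasiFiniteAt_comp_iff_of_isOpenImmersion]
    exact hz
  haveI : IsFinite fV := IsFinite.of_isProper_of_locallyQuasiFinite fV
  let O : Y.Opens := V.ι ''ᵁ ⟨{v | fV.finrank v = 1}, fV.isLocallyConstant_finrank.isOpen_fiber 1⟩
  have hYsO : ∀ y : Y, h y = s → y ∈ O := by
    intro y hy
    refine ⟨⟨y, hYs y hy⟩, ?_, rfl⟩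
    show fV.finrank _ = 1
    let v : V.toScheme := ⟨y, hYs y hy⟩
    have sq := (IsPullback.of_hasPullback fV (V.toScheme.fromSpecResidueField v)).paste_horiz
      (isPullback_morphismRestrict f V).flip
    haveI : IsIso (pullback.snd fV (V.toScheme.fromSpecResidueField v)) := by
      have hy' : IsIso (pullback.snd f (Y.fromSpecResidueField (V.ι v))) := hfib _ hy
      have := isIso_pullback_snd_comp (f := f) (Spec.map (V.ι.residueFieldMap v)) (Y.fromSpecResidueField (V.ι v))
      rw [Scheme.Hom.SpecMap_residueFieldMap_fromSpecResidueField] at this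
      exact MorLib.Desc.of_two (MorphismProperty.isomorphisms Scheme) (IsPullback.of_hasPullback _ _) sq this
    have e := Scheme.Hom.finrank_pullback_snd fV (V.toScheme.fromSpecResidueField v) (closedPoint (V.toScheme.residueField v))
    rw [Scheme.Hom.finrank_eq_one_of_isIso, fromSpecResidueField_closed] at e
    exact e.symm
  let W : S.Opens := ⟨(h '' (O : Set Y)ᶜ)ᶜ, (h.isClosedMap _ O.2.isClosed_compl).isOpen_compl⟩
  refine ⟨W, fun ⟨y, hy, e⟩ => hy (hYsO y e), ?_⟩
  have hWO : h ⁻¹ᵁ W ≤ O := fun y hy => by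
    by_contra hyO
    exact hy ⟨y, hyO, rfl⟩
  let U : V.toScheme.Opens := ⟨{v | fV.finrank v = 1}, fV.isLocallyConstant_finrank.isOpen_fiber 1⟩
  haveI : IsFinite (pullback.snd fV U.ι) := MorphismProperty.pullback_snd _ _ inferInstance
  haveI : IsIso (pullback.snd fV U.ι) := by
    rw [Scheme.Hom.isIso_iff_finrank_eq]
    ext v
    rw [Scheme.Hom.finrank_pullback_snd]
    exact v.2
  let sqU := (IsPullback.of_hasPullback fV U.ι).paste_horiz (isPullback_morphismRestrict f V).flip
  haveI : IsIso (pullback.snd f (U.ι ≫ V.ι)) :=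
    MorLib.Desc.of_two (MorphismProperty.isomorphisms Scheme) sqU (IsPullback.of_hasPullback _ _) ‹_›
  let l : (h ⁻¹ᵁ W).toScheme ⟶ U.toScheme := IsOpenImmersion.lift (U.ι ≫ V.ι) (h ⁻¹ᵁ W).ι (by
    rintro _ ⟨y, rfl⟩
    obtain ⟨v, hv, e⟩ := hWO y.2
    exact ⟨⟨v, hv⟩, e⟩)
  have := isIso_pullback_snd_comp (f := f) l (U.ι ≫ V.ι)
  rw [IsOpenImmersion.lift_fac] at this
  exact MorLib.Desc.of_two (MorphismProperty.isomorphisms Scheme) (IsPullback.of_hasPullback _ _)
    (isPullback_morphismRestrict f _).flip this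

theorem isClosed_of_isLocallyConstructible {L : Set S} (hs : StableUnderSpecialization L)
    (hc : Topology.IsLocallyConstructible L) : IsClosed L := by
  rw [TopologicalSpace.IsOpenCover.isClosed_iff_coe_preimage (iSup_affineOpens_eq_top S)]
  intro W
  let g := W.2.fromSpec
  have hg : IsClosed (g ⁻¹' L) :=
    PrimeSpectrum.isClosed_of_stableUnderSpecialization_of_isConstructible
      (fun a b hab ha => hs (hab.map g.continuous) ha)
      (hc.preimage_of_isOpenEmbedding g.isOpenEmbedding).isConstructible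
  have e : (Subtype.val ⁻¹' L : Set (W : S.Opens)) = W.2.isoSpec.hom ⁻¹' (g ⁻¹' L) := by
    ext z
    simp only [Set.mem_preimage, ← Scheme.Hom.comp_apply]
    rw [IsAffineOpen.isoSpec_hom, W.2.toSpecΓ_fromSpec]
    rfl
  rw [e]
  exact hg.preimage W.2.isoSpec.hom.continuous

end Groth.Agent.PurIso
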