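import Groth.Agent.PurIso.Divisor

/-! Fibrewise isomorphisms over a discrete valuation ring. -/

set_option autoImplicit false
set_option backward.isDefEq.respectTransparency false
set_option backward.isDefEq.respectTransparency.types false
set_option linter.style.haveILetI false
universe u

open CategoryTheory CategoryTheory.Limits AlgebraicGeometry TopologicalSpace IsLocalRing

noncomputable section

namespace Groth.Agent.PurIso

theorem isRegularLocalRing_localization_dvr (R : Type u) [CommRing R] [IsDomain R] [IsDiscreteValuationRing R]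
    (p : Ideal R) [p.IsPrime] : IsRegularLocalRing (Localization.AtPrime p) :=
  haveI : IsDomain (Localization.AtPrime p) := IsLocalization.isDomain_localization p.primeCompl_le_nonZeroDivisors
  haveI : IsPrincipalIdealRing (Localization.AtPrime p) := inferInstance
  inferInstance

theorem isRegularLocalRing_stalk_of_smooth_dvr {R : Type u} [CommRing R] [IsDomain R] [IsDiscreteValuationRing R]
    {Y : Scheme.{u}} (h : Y ⟶ Spec (CommRingCat.of R)) [Smooth h] (y : Y) :
    IsRegularLocalRing (Y.presheaf.stalk y) := by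
  haveI : Smooth ((⊤ : Y.Opens).ι ≫ h) := inferInstance
  obtain ⟨A, B, _, _, _, _, _, _, q, hq, ⟨e⟩, ⟨e'⟩⟩ :=
    Synt29.SmoothProps.exists_ringEquiv h y ⟨⊤, trivial, inferInstance⟩
  let p : PrimeSpectrum R := h y
  haveI : IsRegularLocalRing (Localization.AtPrime p.asIdeal) := isRegularLocalRing_localization_dvr R _
  have e'' : Localization.AtPrime p.asIdeal ≃+* (Spec (CommRingCat.of R)).presheaf.stalk (h y) :=
    (Spec.stalkIso (R := CommRingCat.of R) (x := p)).commRingCatIsoToRingEquiv.symm
  haveI : IsRegularLocalRing (Localization.AtPrime (q.comap (algebraMap A B))) :=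
    IsRegularLocalRing.of_ringEquiv (e''.trans e'.symm)
  haveI := (Synt29.SmoothProps.isRegularLocalRing_iff (A := A) q).2 inferInstance
  exact IsRegularLocalRing.of_ringEquiv e

/-- A fibrewise isomorphism at the generic point of a discrete valuation ring is an isomorphism. -/
theorem isIso_of_dvr {R : Type u} [CommRing R] [IsDomain R] [IsDiscreteValuationRing R] {ϖ : R} (hϖ : Irreducible ϖ)
    {X Y : Scheme.{u}} (f : X ⟶ Y) (h : Y ⟶ Spec (CommRingCat.of R)) [Smooth h] [IsProper f] [Flat (f ≫ h)]
    (hiso : IsIso (f ∣_ (h ⁻¹ᵁ PrimeSpectrum.basicOpen ϖ)))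
    (hη : IsPreirreducible ((f ≫ h) ⁻¹ᵁ PrimeSpectrum.basicOpen ϖ : Set X))
    (hs : IsPreirreducible ((f ≫ h) ⁻¹ᵁ PrimeSpectrum.basicOpen ϖ : Set X)ᶜ) : IsIso f := by
  let D : (Spec (CommRingCat.of R)).Opens := PrimeSpectrum.basicOpen ϖ
  have hbot : ∀ z : Spec (CommRingCat.of R), ((⊥ : PrimeSpectrum R) : Spec (CommRingCat.of R)) ⤳ z := fun z =>
    (PrimeSpectrum.le_iff_specializes _ _).1 bot_le
  have hbotD : ((⊥ : PrimeSpectrum R) : Spec (CommRingCat.of R)) ∈ D := fun hm => hϖ.ne_zero hm
  -- the generic fibre is dense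
  have hdense : ∀ {W : Scheme.{u}} (w : W ⟶ Spec (CommRingCat.of R)) [Flat w] (z : W), ∃ z', z' ⤳ z ∧ w z' ∈ D :=
    fun w _ z => by
      obtain ⟨z', hz', hz''⟩ := Flat.generalizingMap w (hbot (w z))
      exact ⟨z', hz', hz'' ▸ hbotD⟩
  haveI : Surjective f := ⟨fun y => by
    obtain ⟨y', hy', hy'D⟩ := hdense h y
    haveI : IsIso (f ∣_ h ⁻¹ᵁ D) := hiso
    obtain ⟨x, hx⟩ := (f ∣_ h ⁻¹ᵁ D).surjective ⟨y', hy'D⟩
    obtain ⟨x', hx'⟩ := hy'.mem_closed f.isClosedMap.isClosed_range
      ⟨x.1, (morphismRestrict_base_coe f _ x).symm.trans (congrArg Subtype.val hx)⟩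
    exact ⟨x', hx'⟩⟩
  by_cases hX : Nonempty X
  swap
  · haveI : IsEmpty X := not_nonempty_iff.1 hX
    haveI : IsEmpty Y := ⟨fun y => IsEmpty.false (f.surjective y).choose⟩
    infer_instance
  haveI := hX
  haveI : IrreducibleSpace X := by
    haveI : PreirreducibleSpace X := by
      refine ⟨?_⟩
      have h1 : closure ((f ≫ h) ⁻¹ᵁ PrimeSpectrum.basicOpen ϖ : Set X) = Set.univ := by
        refine Set.eq_univ_of_forall fun x => ?_
        obtain ⟨x', hx', hD'⟩ := hdense (f ≫ h) x
        exact hx'.mem_closed isClosed_closure (subset_closure hD')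
      rw [← h1]
      exact hη.closure
    exact { toNonempty := hX }
  haveI : IrreducibleSpace Y := by
    haveI : PreirreducibleSpace Y := by
      refine ⟨?_⟩
      rw [← f.surjective.range_eq, ← Set.image_univ]
      exact (IrreducibleSpace.isIrreducible_univ X).isPreirreducible.image f f.continuous.continuousOn
    exact { toNonempty := ⟨f (Classical.arbitrary X)⟩ }
  haveI : IsLocallyNoetherian Y := LocallyOfFiniteType.isLocallyNoetherian h
  haveI : IsLocallyNoetherian X := LocallyOfFiniteType.isLocallyNoetherian f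
  have hreg := isRegularLocalRing_stalk_of_smooth_dvr h
  haveI : IsReduced Y := by
    haveI : ∀ y, _root_.IsReduced (Y.presheaf.stalk y) := fun y => by
      haveI := hreg y
      haveI := (RegUFD.ufd (Y.presheaf.stalk y)).1
      infer_instance
    exact isReduced_of_isReduced_stalk Y
  haveI : IsIntegral Y := isIntegral_of_irreducibleSpace_of_isReduced Y
  let τ : Γ(Spec (CommRingCat.of R), ⊤) := (Scheme.ΓSpecIso (CommRingCat.of R)).inv ϖ
  have hτ : (Spec (CommRingCat.of R)).basicOpen τ = D := basicOpen_eq_of_affine (R := CommRingCat.of R) ϖ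
  let σ : Γ(Y, ⊤) := h.appTop τ
  have hσ : Y.basicOpen σ = h ⁻¹ᵁ D := by rw [← hτ, Scheme.preimage_basicOpen]; rfl
  let Xη := f ⁻¹ᵁ (h ⁻¹ᵁ D)
  haveI : IsReduced (Xη : Scheme.{u}) := by
    haveI := hiso
    exact isReduced_of_isOpenImmersion (f ∣_ h ⁻¹ᵁ D)
  haveI : IsReduced X := by
    haveI : ∀ x, _root_.IsReduced (X.presheaf.stalk x) := fun x => by
      obtain ⟨U, hU, hxU, -⟩ := exists_isAffineOpen_mem_and_subset (x := x) (U := ⊤) trivial
      have hflat : ((f ≫ h).appLE ⊤ U (by simp)).hom.Flat :=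
        HasRingHomProperty.appLE @Flat _ inferInstance ⟨⊤, isAffineOpen_top _⟩ ⟨U, hU⟩ _
      let t := ((f ≫ h).appLE ⊤ U (by simp)).hom τ
      have ht : IsSMulRegular Γ(X, U) t := by
        letI : Algebra Γ(Spec (CommRingCat.of R), ⊤) Γ(X, U) := ((f ≫ h).appLE ⊤ U (by simp)).hom.toAlgebra
        haveI : Module.Flat Γ(Spec (CommRingCat.of R), ⊤) Γ(X, U) := hflat
        refine IsSMulRegular.of_flat ?_
        have hτ0 : τ ≠ 0 := fun e => hϖ.ne_zero
          ((Scheme.ΓSpecIso (CommRingCat.of R)).commRingCatIsoToRingEquiv.symm.injective (e.trans (map_zero _).symm))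
        haveI : IsDomain Γ(Spec (CommRingCat.of R), ⊤) :=
          (Scheme.ΓSpecIso (CommRingCat.of R)).commRingCatIsoToRingEquiv.toMulEquiv.isDomain
        exact fun a b hab => mul_left_cancel₀ hτ0 hab
      have hred : _root_.IsReduced Γ(X, U) := by
        haveI := hU.isLocalization_basicOpen t
        haveI : _root_.IsReduced Γ(X, X.basicOpen t) := by
          have hle : X.basicOpen t ≤ Xη := by
            show X.basicOpen ((X.presheaf.map (homOfLE _).op).hom ((f ≫ h).app ⊤ τ)) ≤ _
            rw [Scheme.basicOpen_res, ← Scheme.preimage_basicOpen, hτ]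
            exact inf_le_right
          haveI : IsReduced (X.basicOpen t : Scheme.{u}) := isReduced_of_isOpenImmersion (X.homOfLE hle)
          exact isReduced_of_injective (X.basicOpen t).topIso.inv.hom
            (ConcreteCategory.bijective_of_isIso (X.basicOpen t).topIso.inv).1
        refine isReduced_of_injective (algebraMap Γ(X, U) Γ(X, X.basicOpen t)) ?_
        refine IsLocalization.injective _ (M := Submonoid.powers t) ?_
        rintro _ ⟨k, rfl⟩
        exact mem_nonZeroDivisors_iff_right.2 fun a ha => (ht.pow k) (by simpa [mul_comm] using ha)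
      letI := X.presheaf.algebra_section_stalk (U := U) ⟨x, hxU⟩
      have := hU.isLocalization_stalk ⟨x, hxU⟩
      exact isReduced_localizationPreserves (hU.primeIdealOf ⟨x, hxU⟩).asIdeal.primeCompl _ hred
    exact isReduced_of_isReduced_stalk X
  haveI : IsIntegral X := isIntegral_of_irreducibleSpace_of_isReduced X
  have hloc : ∀ x, f x ∈ Y.basicOpen σ → LocIsoAt f x := fun x hx => by
    rw [hσ] at hx
    refine ⟨Xη, hx, ?_⟩
    haveI := hiso
    rw [← morphismRestrict_ι]
    infer_instance
  refine isIso_of_divisor f hreg σ ?_ hloc ?_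
  · obtain ⟨x', hx', hD'⟩ := hdense (f ≫ h) (Classical.arbitrary X)
    rw [hσ]
    exact ((genericPoint_specializes x').map (f ≫ h).continuous).mem_open D.2 hD'
  · rw [hσ]
    exact hs

end Groth.Agent.PurIso
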