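import Groth.Agent.PurIso.LocalIso
import Groth.Agent.RegUFD.Basic
import Groth.Agent.CDiv6.Normal
import Groth.Agent.Synt29.SmoothProps

/-! Birational proper morphisms onto regular schemes that are isomorphisms outside an irreducible divisor. -/

set_option autoImplicit false
set_option backward.isDefEq.respectTransparency false
set_option backward.isDefEq.respectTransparency.types false
set_option linter.style.haveILetI false
universe u

open CategoryTheory CategoryTheory.Limits AlgebraicGeometry TopologicalSpace IsLocalRing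

noncomputable section

namespace Groth.Agent.PurIso

theorem exists_frac_of_locIsoAt {X Y : Scheme.{u}} [IsIntegral X] [IsIntegral Y] (g : X ⟶ Y)
    (hgen : LocIsoAt g (genericPoint ↥X)) (x : X) (b : X.presheaf.stalk x) :
    ∃ a c : Y.presheaf.stalk (g x), g.stalkMap x c ≠ 0 ∧ g.stalkMap x c * b = g.stalkMap x a := by
  haveI := hgen.isIso_stalkMap
  have hs := genericPoint_specializes x
  obtain ⟨z, hz⟩ := (ConcreteCategory.bijective_of_isIso (g.stalkMap (genericPoint ↥X))).2
    (X.presheaf.stalkSpecializes hs b)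
  obtain ⟨V, hV, hyV, -⟩ := exists_isAffineOpen_mem_and_subset (x := g x) (U := ⊤) trivial
  have hηV : g (genericPoint ↥X) ∈ V := (hs.map g.continuous).mem_open V.2 hyV
  letI := Y.presheaf.algebra_section_stalk (U := V) ⟨g (genericPoint ↥X), hηV⟩
  have := hV.isLocalization_stalk ⟨g (genericPoint ↥X), hηV⟩
  obtain ⟨⟨a, c⟩, hac⟩ := IsLocalization.surj (hV.primeIdealOf ⟨g (genericPoint ↥X), hηV⟩).asIdeal.primeCompl z
  have key : ∀ w : Γ(Y, V), X.presheaf.stalkSpecializes hs (g.stalkMap x (Y.presheaf.germ V (g x) hyV w)) =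
      g.stalkMap (genericPoint ↥X) (Y.presheaf.germ V (g (genericPoint ↥X)) hηV w) := fun w => by
    have e := congr(($(Scheme.Hom.stalkSpecializes_stalkMap g (genericPoint ↥X) x hs)).hom
      (Y.presheaf.germ V (g x) hyV w))
    refine e.symm.trans (congrArg (g.stalkMap (genericPoint ↥X)) ?_)
    exact congr(($(TopCat.Presheaf.germ_stalkSpecializes Y.presheaf hyV (hs.map g.continuous))).hom w)
  refine ⟨Y.presheaf.germ V (g x) hyV a, Y.presheaf.germ V (g x) hyV c, fun h => ?_, stalkSpecializes_injective hs ?_⟩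
  · have h1 : IsUnit (g.stalkMap (genericPoint ↥X) (Y.presheaf.germ V (g (genericPoint ↥X)) hηV c.1)) :=
      (IsLocalization.map_units (Y.presheaf.stalk (g (genericPoint ↥X))) c).map (g.stalkMap _).hom
    rw [← key, h, map_zero] at h1
    exact not_isUnit_zero h1
  · rw [map_mul, key, key, ← hz, ← map_mul, mul_comm]
    exact congrArg (g.stalkMap _) hac

theorem bijective_of_isDiscreteValuationRing {A B : Type u} [CommRing A] [IsDomain A] [IsDiscreteValuationRing A]
    [CommRing B] [IsDomain B] (φ : A →+* B) [IsLocalHom φ] (hinj : Function.Injective φ)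
    (hfrac : ∀ b, ∃ a c, φ c ≠ 0 ∧ φ c * b = φ a) : Function.Bijective φ := by
  refine ⟨hinj, fun b => ?_⟩
  obtain ⟨a, c, hc, h⟩ := hfrac b
  rcases ValuationRing.dvd_total c a with ⟨d, rfl⟩ | ⟨d, rfl⟩
  · exact ⟨d, (mul_left_cancel₀ hc (h.trans (map_mul φ c d))).symm⟩
  · have ha : φ a ≠ 0 := fun e => hc (by rw [map_mul, e, zero_mul])
    have h1 : φ d * b = 1 := mul_left_cancel₀ ha (by rw [mul_one, ← mul_assoc, ← map_mul, h])
    obtain ⟨v, rfl⟩ := isUnit_of_map_unit φ d (IsUnit.of_mul_eq_one b h1)
    exact ⟨(v⁻¹ : Aˣ), (v.isUnit.map φ).mul_left_cancel (by rw [← map_mul, Units.mul_inv, map_one, h1])⟩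

/-- A proper birational surjection onto a regular scheme which is a local isomorphism outside an irreducible
divisor is an isomorphism. -/
theorem isIso_of_divisor {X Y : Scheme.{u}} [IsIntegral X] [IsLocallyNoetherian X] [IsIntegral Y]
    [IsLocallyNoetherian Y] (g : X ⟶ Y) [IsProper g] [Surjective g]
    (hreg : ∀ y : Y, IsRegularLocalRing (Y.presheaf.stalk y)) (σ : Γ(Y, ⊤))
    (hgen : g (genericPoint ↥X) ∈ Y.basicOpen σ)
    (hloc : ∀ x, g x ∈ Y.basicOpen σ → LocIsoAt g x)
    (hirr : IsPreirreducible {x : X | g x ∉ Y.basicOpen σ}) : IsIso g := by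
  have hY : ∀ y : ↥Y, UniqueFactorizationMonoid (Y.presheaf.stalk y) := fun y =>
    haveI := hreg y
    (RegUFD.ufd (Y.presheaf.stalk y)).2
  have hgen' := hloc _ hgen
  have hV : ∃ W : X.Opens, (W : Set ↥X).Nonempty ∧ IsOpenImmersion (W.ι ≫ g) := by
    obtain ⟨W, hW, hoi⟩ := hgen'
    exact ⟨W, ⟨_, hW⟩, hoi⟩
  have hunit : ∀ (y z : Y) (hs : z ⤳ y),
      (Y.presheaf.germ ⊤ y trivial σ ∈ (CDiv6.primeOf hs).asIdeal ↔ z ∉ Y.basicOpen σ) := fun y z hs => by
    rw [CDiv6.mem_primeOf, Scheme.mem_basicOpen_top]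
    exact not_congr (iff_of_eq (congrArg IsUnit
      congr(($(TopCat.Presheaf.germ_stalkSpecializes Y.presheaf (U := ⊤) trivial hs)).hom σ)))
  have h1 : ∀ x : ↥X, ringKrullDim (X.presheaf.stalk x) = 1 → LocIsoAt g x := by
    intro x hx
    by_cases hxσ : g x ∈ Y.basicOpen σ
    · exact hloc x hxσ
    -- `x` is the generic point of the exceptional fibre
    have hmax : ∀ z, g z ∉ Y.basicOpen σ → z ⤳ x → z = x := by
      intro z hz hs
      by_contra hne
      have hq : (CDiv6.primeOf hs).asIdeal = ⊥ := by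
        by_contra hq
        rw [← IsLocalRing.maximalIdeal_height_eq_ringKrullDim] at hx
        have h2 : (CDiv6.primeOf hs).asIdeal = maximalIdeal _ :=
          CDiv6.eq_of_le_of_height_one hq (IsLocalRing.le_maximalIdeal (CDiv6.primeOf hs).isPrime.ne_top)
            (WithBot.coe_inj.1 hx)
        refine hne ?_
        rw [← CDiv6.fromSpecStalk_primeOf hs, show CDiv6.primeOf hs = closedPoint _ from PrimeSpectrum.ext h2,
          Scheme.fromSpecStalk_closedPoint]
      have hg' : CDiv6.primeOf (genericPoint_specializes x) = CDiv6.primeOf hs := by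
        refine PrimeSpectrum.ext (hq.symm ▸ ?_)
        refine (Submodule.eq_bot_iff _).2 fun a ha => ?_
        by_contra ha0
        refine (CDiv6.mem_primeOf _ _).1 ha (isUnit_iff_ne_zero.2 fun h => ha0 ?_)
        exact stalkSpecializes_injective _ (h.trans (map_zero _).symm)
      have h3 := congrArg (X.fromSpecStalk x) hg'
      rw [CDiv6.fromSpecStalk_primeOf, CDiv6.fromSpecStalk_primeOf] at h3
      exact hz (h3 ▸ hgen)
    let C : Set X := {x : X | g x ∉ Y.basicOpen σ}
    have hC : IsClosed C := (Y.basicOpen σ).2.isClosed_compl.preimage g.continuous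
    obtain ⟨γ, hγ⟩ := QuasiSober.sober ⟨⟨x, hxσ⟩, hirr⟩ hC
    have hγx : γ = x := hmax γ hγ.mem (hγ.specializes hxσ)
    subst hγx
    have hy : ∀ z : Y, z ∉ Y.basicOpen σ → g γ ⤳ z := fun z hz => by
      obtain ⟨w, rfl⟩ := g.surjective z
      exact (hγ.specializes hz).map g.continuous
    let A := Y.presheaf.stalk (g γ)
    haveI : IsNoetherianRing A := inferInstance
    haveI := hY (g γ)
    let s : A := Y.presheaf.germ ⊤ (g γ) trivial σ
    have hsm : s ∈ maximalIdeal A := by
      rw [IsLocalRing.mem_maximalIdeal, mem_nonunits_iff]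
      exact fun h => hxσ ((Scheme.mem_basicOpen_top _ σ (g γ)).2 h)
    have hs0 : s ≠ 0 := fun h => by
      have h4 := (hunit (g γ) (g (genericPoint ↥X)) ((genericPoint_specializes γ).map g.continuous)).1
      exact h4 (by show s ∈ _; rw [h]; exact zero_mem _) hgen
    have hmin : maximalIdeal A ∈ (Ideal.span {s}).minimalPrimes := by
      refine ⟨⟨inferInstance, (Ideal.span_singleton_le_iff_mem _).2 hsm⟩, fun p hp hpm => ?_⟩
      haveI : p.IsPrime := hp.1
      let P : PrimeSpectrum A := ⟨p, hp.1⟩
      have hz : Y.fromSpecStalk (g γ) P ∉ Y.basicOpen σ :=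
        (hunit (g γ) _ (CDiv6.fromSpecStalk_specializes P)).1
          (by rw [CDiv6.primeOf_fromSpecStalk]; exact (Ideal.span_singleton_le_iff_mem _).1 hp.2)
      have e : Y.fromSpecStalk (g γ) P = g γ :=
        ((CDiv6.fromSpecStalk_specializes P).antisymm (hy _ hz)).eq
      have e2 : P = closedPoint A := (Y.fromSpecStalk (g γ)).isEmbedding.injective
        (e.trans Scheme.fromSpecStalk_closedPoint.symm)
      exact (congrArg PrimeSpectrum.asIdeal e2).ge
    have hdim : ringKrullDim A = 1 := by
      haveI : (Ideal.span {s}).IsPrincipal := ⟨s, rfl⟩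
      rw [← IsLocalRing.maximalIdeal_height_eq_ringKrullDim]
      exact congrArg WithBot.some (CDiv6.height_eq_one_of_prime (fun h => hs0 (by rw [h] at hsm; exact hsm))
        (Ideal.height_le_one_of_isPrincipal_of_mem_minimalPrimes _ _ hmin))
    haveI : IsDiscreteValuationRing A := CDiv6.isDVR_of_dim_eq_one A hdim
    refine locIsoAt_of_isIso_stalkMap g ((ConcreteCategory.isIso_iff_bijective _).2 ?_)
    refine bijective_of_isDiscreteValuationRing (g.stalkMap γ).hom (fun a a' h => ?_)
      (exists_frac_of_locIsoAt g hgen' γ)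
    haveI := hgen'.isIso_stalkMap
    refine stalkSpecializes_injective ((genericPoint_specializes γ).map g.continuous)
      ((ConcreteCategory.bijective_of_isIso (g.stalkMap (genericPoint ↥X))).1 ?_)
    have e := fun z => congr(($(Scheme.Hom.stalkSpecializes_stalkMap g (genericPoint ↥X) γ
      (genericPoint_specializes γ))).hom z)
    exact ((e a).trans (congrArg (X.presheaf.stalkSpecializes _) h)).trans (e a').symm
  haveI : IsOpenImmersion g := S2244.result g fun x => locIsoAt_of_codim_one g hY hV h1 x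
  exact (isIso_iff_isOpenImmersion_and_epi_base g).2 ⟨inferInstance, (TopCat.epi_iff_surjective _).2 g.surjective⟩

end Groth.Agent.PurIso
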