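import Groth.Agent.PurIso.DvrCore
import Groth.Agent.S4450
import Groth.Agent.MorLib.Descend
import Mathlib.AlgebraicGeometry.Morphisms.FlatDescent
import Mathlib.AlgebraicGeometry.Geometrically.Irreducible

/-! Fibres over field valued points on which a morphism is an isomorphism. -/

set_option autoImplicit false
set_option backward.isDefEq.respectTransparency false
set_option backward.isDefEq.respectTransparency.types false
set_option linter.style.haveILetI false
universe u

open CategoryTheory CategoryTheory.Limits AlgebraicGeometry TopologicalSpace IsLocalRing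

noncomputable section

namespace Groth.Agent.PurIso

variable {X Y S : Scheme.{u}} (f : X ⟶ Y) (h : Y ⟶ S)

/-- `f` is an isomorphism after base change to the point. -/
def IsoOver {T : Scheme.{u}} (ξ : T ⟶ S) : Prop := IsIso (pullback.snd f (pullback.fst h ξ))

/-- Every field valued fibre is preirreducible. -/
def GeomPre {W : Scheme.{u}} (g : W ⟶ S) : Prop :=
  ∀ (K : Type u) [Field K] (ξ : Spec (CommRingCat.of K) ⟶ S), PreirreducibleSpace ↥(pullback g ξ)

variable {f h}

theorem isoOver_iff_of_isPullback {T W : Scheme.{u}} {ξ : T ⟶ S} {v : W ⟶ Y} {w : W ⟶ T}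
    (sq : IsPullback v w h ξ) : IsoOver f h ξ ↔ IsIso (pullback.snd f v) := by
  let e := sq.isoPullback
  have h1 : IsPullback (pullback.fst f v) (pullback.snd f v ≫ e.hom) f (pullback.fst h ξ) := by
    refine (IsPullback.of_hasPullback f v).of_iso (Iso.refl _) (Iso.refl _) e (Iso.refl _) (by simp) (by simp)
      (by simp) ?_
    simp [e]
  constructor
  · intro hi
    haveI : IsIso (pullback.snd f v ≫ e.hom) :=
      MorLib.Desc.of_two (MorphismProperty.isomorphisms Scheme) (IsPullback.of_hasPullback _ _) h1 hi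
    exact IsIso.of_isIso_comp_right (pullback.snd f v) e.hom
  · intro hi
    haveI := hi
    exact MorLib.Desc.of_two (MorphismProperty.isomorphisms Scheme) h1 (IsPullback.of_hasPullback _ _)
      (inferInstanceAs (IsIso (pullback.snd f v ≫ e.hom)))

theorem IsoOver.comp {T T' : Scheme.{u}} {ξ : T ⟶ S} (hi : IsoOver f h ξ) (ψ : T' ⟶ T) :
    IsoOver f h (ψ ≫ ξ) := by
  let m : pullback h (ψ ≫ ξ) ⟶ pullback h ξ :=
    pullback.lift (pullback.fst _ _) (pullback.snd _ _ ≫ ψ) (by rw [Category.assoc, pullback.condition])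
  exact MorLib.Desc.of_factor (MorphismProperty.isomorphisms Scheme) hi (a := m) (pullback.lift_fst _ _ _)
    (IsPullback.of_hasPullback _ _)

theorem isoOver_comp_iff {T T' : Scheme.{u}} {ξ : T ⟶ S} (ψ : T' ⟶ T) [Surjective ψ] [Flat ψ] [QuasiCompact ψ] :
    IsoOver f h (ψ ≫ ξ) ↔ IsoOver f h ξ := by
  refine ⟨fun hi => ?_, fun hi => hi.comp ψ⟩
  let m : pullback h (ψ ≫ ξ) ⟶ pullback h ξ :=
    pullback.lift (pullback.fst _ _) (pullback.snd _ _ ≫ ψ) (by rw [Category.assoc, pullback.condition])
  have hm : IsPullback m (pullback.snd h (ψ ≫ ξ)) (pullback.snd h ξ) ψ := by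
    refine IsPullback.of_right ?_ (pullback.lift_snd _ _ _) (IsPullback.of_hasPullback h ξ)
    rw [pullback.lift_fst]
    exact IsPullback.of_hasPullback h (ψ ≫ ξ)
  have hQ : (@Surjective ⊓ @Flat ⊓ @QuasiCompact : MorphismProperty Scheme.{u}) m :=
    ⟨⟨MorphismProperty.of_isPullback hm.flip inferInstance, MorphismProperty.of_isPullback hm.flip inferInstance⟩,
      MorphismProperty.of_isPullback hm.flip inferInstance⟩
  let l : pullback f (pullback.fst h (ψ ≫ ξ)) ⟶ pullback f (pullback.fst h ξ) :=
    pullback.lift (pullback.fst _ _) (pullback.snd _ _ ≫ m)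
      (by rw [Category.assoc, pullback.lift_fst, pullback.condition])
  have hsq : IsPullback l (pullback.snd f (pullback.fst h (ψ ≫ ξ))) (pullback.snd f (pullback.fst h ξ)) m := by
    refine IsPullback.of_right ?_ (pullback.lift_snd _ _ _) (IsPullback.of_hasPullback f _)
    rw [pullback.lift_fst, pullback.lift_fst]
    exact IsPullback.of_hasPullback _ _
  exact MorphismProperty.of_isPullback_of_descendsAlong (P := MorphismProperty.isomorphisms Scheme)
    (Q := @Surjective ⊓ @Flat ⊓ @QuasiCompact) hsq.flip hQ hi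

theorem surjective_of_field {K L : Type u} [Field K] [Field L]
    (ψ : Spec (CommRingCat.of L) ⟶ Spec (CommRingCat.of K)) : Surjective ψ :=
  ⟨fun z => ⟨closedPoint L, Subsingleton.elim _ _⟩⟩

theorem fromSpecResidueField_closed (W : Scheme.{u}) (x : W) :
    W.fromSpecResidueField x (closedPoint (W.residueField x)) = x :=
  Scheme.fromSpecResidueField_apply _ _

/-- Being an isomorphism over a field valued point depends only on its image. -/
theorem isoOver_iff_of_eq {K L : Type u} [Field K] [Field L] {ξ : Spec (CommRingCat.of K) ⟶ S}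
    {η : Spec (CommRingCat.of L) ⟶ S} (e : ξ (closedPoint K) = η (closedPoint L)) :
    IsoOver f h ξ ↔ IsoOver f h η := by
  obtain ⟨z, -, -⟩ := Scheme.Pullback.exists_preimage_pullback (f := ξ) (g := η) (closedPoint K) (closedPoint L) e
  let j := (pullback ξ η).fromSpecResidueField z
  haveI := surjective_of_field (j ≫ pullback.fst ξ η)
  haveI := surjective_of_field (j ≫ pullback.snd ξ η)
  rw [← isoOver_comp_iff (j ≫ pullback.fst ξ η), ← isoOver_comp_iff (ξ := η) (j ≫ pullback.snd ξ η),
    Category.assoc, Category.assoc, pullback.condition]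

theorem isoOver_baseChange {S' X' Y' : Scheme.{u}} {g : S' ⟶ S} {gY : Y' ⟶ Y} {gX : X' ⟶ X} {f' : X' ⟶ Y'}
    {h' : Y' ⟶ S'} (hY : IsPullback gY h' h g) (hX : IsPullback gX f' f gY) {T : Scheme.{u}} (ξ : T ⟶ S') :
    IsoOver f' h' ξ ↔ IsoOver f h (ξ ≫ g) := by
  have sq := (IsPullback.of_hasPullback h' ξ).paste_horiz hY
  rw [isoOver_iff_of_isPullback sq]
  have sq2 := (IsPullback.of_hasPullback f' (pullback.fst h' ξ)).paste_horiz hX
  exact ⟨fun hi => MorLib.Desc.of_two (MorphismProperty.isomorphisms Scheme) sq2 (IsPullback.of_hasPullback _ _) hi,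
    fun hi => MorLib.Desc.of_two (MorphismProperty.isomorphisms Scheme) (IsPullback.of_hasPullback _ _) sq2 hi⟩

theorem isoOver_opensι (D : S.Opens) : IsoOver f h D.ι ↔ IsIso (f ∣_ (h ⁻¹ᵁ D)) := by
  rw [isoOver_iff_of_isPullback (isPullback_morphismRestrict h D).flip]
  exact ⟨fun hi => MorLib.Desc.of_two (MorphismProperty.isomorphisms Scheme) (IsPullback.of_hasPullback _ _)
      (isPullback_morphismRestrict f _).flip hi,
    fun hi => MorLib.Desc.of_two (MorphismProperty.isomorphisms Scheme) (isPullback_morphismRestrict f _).flip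
      (IsPullback.of_hasPullback _ _) hi⟩

theorem geomPre_of_geometricallyIrreducible {W : Scheme.{u}} (g : W ⟶ S) [GeometricallyIrreducible g] :
    GeomPre g := fun K _ ξ => by
  haveI : IrreducibleSpace ↥(pullback g ξ) :=
    GeometricallyIrreducible.geometrically_irreducibleSpace ξ _ _ (IsPullback.of_hasPullback g ξ)
  infer_instance

theorem preirreducibleSpace_of_surjective {A B : Scheme.{u}} (m : A ⟶ B) [Surjective m] [PreirreducibleSpace A] :
    PreirreducibleSpace B := by
  refine ⟨?_⟩
  rw [← m.surjective.range_eq, ← Set.image_univ]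
  exact (PreirreducibleSpace.isPreirreducible_univ (X := A)).image m m.continuous.continuousOn

theorem GeomPre.comp_openImmersion {U W : Scheme.{u}} {g : W ⟶ S} (hg : GeomPre g) (j : U ⟶ W) [IsOpenImmersion j] :
    GeomPre (j ≫ g) := fun K _ ξ => by
  haveI := hg K ξ
  let m : pullback (j ≫ g) ξ ⟶ pullback g ξ :=
    pullback.map _ _ _ _ j (𝟙 _) (𝟙 _) (by simp) (by simp)
  refine ⟨?_⟩
  have := IsPreirreducible.preimage
    (PreirreducibleSpace.isPreirreducible_univ (X := ↥(pullback g ξ))) m.isOpenEmbedding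
  rwa [Set.preimage_univ] at this

/-- Preirreducibility of the fibres descends along surjective base change, at points in the image. -/
theorem preirreducible_fibre_of_baseChange {S' W W' : Scheme.{u}} {g : W ⟶ S} {g' : W' ⟶ S'} {p : S' ⟶ S}
    {q : W' ⟶ W} (sq : IsPullback q g' g p) (hg : GeomPre g') {K : Type u} [Field K]
    (ξ : Spec (CommRingCat.of K) ⟶ S) (s : S') (hs : ξ (closedPoint K) = p s) :
    PreirreducibleSpace ↥(pullback g ξ) := by
  let η := S'.fromSpecResidueField s
  obtain ⟨z, -, -⟩ := Scheme.Pullback.exists_preimage_pullback (f := ξ) (g := η ≫ p) (closedPoint K)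
    (closedPoint (S'.residueField s)) (by rw [hs, Scheme.Hom.comp_apply]; exact congrArg p (Scheme.fromSpecResidueField_apply _ _).symm)
  let j := (pullback ξ (η ≫ p)).fromSpecResidueField z
  let a := j ≫ pullback.fst ξ (η ≫ p)
  let b := j ≫ pullback.snd ξ (η ≫ p) ≫ η
  haveI := surjective_of_field (K := K) (L := (pullback ξ (η ≫ p)).residueField z) a
  haveI := hg ((pullback ξ (η ≫ p)).residueField z) b
  have e := (IsPullback.of_hasPullback g' b).paste_horiz sq.flip.flip
  have hab : b ≫ p = a ≫ ξ := by simp [a, b, pullback.condition]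
  rw [hab] at e
  let m : pullback g' b ⟶ pullback g ξ :=
    pullback.lift (pullback.fst g' b ≫ q) (pullback.snd g' b ≫ a) (by rw [Category.assoc (pullback.snd g' b)]; exact e.w)
  have hm : IsPullback m (pullback.snd g' b) (pullback.snd g ξ) a := by
    refine IsPullback.of_right ?_ (pullback.lift_snd _ _ _) (IsPullback.of_hasPullback g ξ)
    rw [pullback.lift_fst]
    exact e
  haveI : Surjective m := MorphismProperty.of_isPullback hm.flip inferInstance
  exact preirreducibleSpace_of_surjective m

theorem isPreirreducible_preimage_of_fibre {W : Scheme.{u}} (g : W ⟶ S) {K : Type u} [Field K]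
    (ξ : Spec (CommRingCat.of K) ⟶ S) [PreirreducibleSpace ↥(pullback g ξ)] :
    IsPreirreducible (g ⁻¹' {ξ (closedPoint K)}) := by
  have e : g ⁻¹' {ξ (closedPoint K)} = Set.range (pullback.fst g ξ) := by
    rw [Scheme.Pullback.range_fst]
    ext w
    constructor
    · exact fun hw => ⟨closedPoint K, hw.symm⟩
    · rintro ⟨z, hz⟩
      show g w = _
      rw [← hz, Subsingleton.elim z (closedPoint K)]
  rw [e, ← Set.image_univ]
  exact (PreirreducibleSpace.isPreirreducible_univ (X := ↥(pullback g ξ))).image _ (pullback.fst g ξ).continuous.continuousOn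

set_option maxHeartbeats 400000 in
/-- Over a Noetherian base the iso locus is stable under specialisation. -/
theorem isoOver_of_specializes [IsLocallyNoetherian S] [Smooth h] [IsProper f] [Flat (f ≫ h)] {s s' : S} (hs : s' ⤳ s)
    (hiso : IsoOver f h (S.fromSpecResidueField s'))
    (hpre : ∀ (t : S), t = s ∨ t = s' → ∀ (K : Type u) [Field K] (ξ : Spec (CommRingCat.of K) ⟶ S),
      ξ (closedPoint K) = t → PreirreducibleSpace ↥(pullback (f ≫ h) ξ)) :
    IsoOver f h (S.fromSpecResidueField s) := by
  by_cases hne : s = s'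
  · exact hne ▸ hiso
  obtain ⟨A, g, hA, hcl, hgen⟩ := S4450.result (𝟙 S) s' s hs hne
  haveI := hA
  obtain ⟨ϖ, hϖ⟩ := IsDiscreteValuationRing.exists_irreducible A
  let T := Spec (CommRingCat.of A)
  let h₁ := pullback.snd h g
  let f₁ := pullback.snd f (pullback.fst h g)
  let D : T.Opens := PrimeSpectrum.basicOpen ϖ
  have hpts : ∀ z : T, (z ∈ D ↔ z = ((⊥ : PrimeSpectrum A) : T)) ∧ (z ∉ D ↔ z = closedPoint A) := by
    intro z
    have hpt : ∀ z : PrimeSpectrum A, z = ⊥ ∨ z = closedPoint A := fun z => by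
      rcases eq_or_ne z.asIdeal ⊥ with h | h
      · exact Or.inl (PrimeSpectrum.ext h)
      · exact Or.inr (PrimeSpectrum.ext (IsLocalRing.eq_maximalIdeal (z.isPrime.isMaximal h)))
    have h1 : ((⊥ : PrimeSpectrum A) : T) ∈ D := fun hm => hϖ.ne_zero hm
    have h2 : (closedPoint A : T) ∉ D := fun hm => hm hϖ.not_isUnit
    rcases hpt z with rfl | rfl
    · exact ⟨iff_of_true h1 rfl, iff_of_false (not_not.2 h1) fun e => h2 (show (closedPoint A : T) ∈ D from e ▸ h1)⟩
    · exact ⟨iff_of_false h2 fun e => h2 (show (closedPoint A : T) ∈ D from e.symm ▸ h1), iff_of_true h2 rfl⟩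
  have hη : g ((⊥ : PrimeSpectrum A) : T) = s' := by
    let z : PrimeSpectrum (S.residueField s') := ⊥
    have e' : (Spec.map (CommRingCat.ofHom A.subtype)) z = (⊥ : PrimeSpectrum A) :=
      PrimeSpectrum.ext ((RingHom.injective_iff_ker_eq_bot A.subtype).mp Subtype.val_injective)
    rw [← e', ← Scheme.Hom.comp_apply, hgen, Category.comp_id]
    exact Scheme.fromSpecResidueField_apply _ _
  have hY : IsPullback (pullback.fst h g) h₁ h g := IsPullback.of_hasPullback h g
  have hX : IsPullback (pullback.fst f (pullback.fst h g)) f₁ f (pullback.fst h g) := IsPullback.of_hasPullback _ _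
  have hW := hX.paste_vert hY
  haveI : Smooth h₁ := MorphismProperty.pullback_snd _ _ inferInstance
  haveI : IsProper f₁ := MorphismProperty.pullback_snd _ _ inferInstance
  haveI : Flat (f₁ ≫ h₁) := MorphismProperty.of_isPullback hW inferInstance
  have hfib : ∀ t : T, IsPreirreducible ((f₁ ≫ h₁) ⁻¹' {t}) := fun t => by
    let ξ := T.fromSpecResidueField t
    have ht : ξ (closedPoint _) = t := Scheme.fromSpecResidueField_apply _ _
    haveI : PreirreducibleSpace ↥(pullback (f₁ ≫ h₁) ξ) := by
      have hξ : (ξ ≫ g) (closedPoint (T.residueField t)) = s ∨ (ξ ≫ g) (closedPoint (T.residueField t)) = s' := by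
        rw [Scheme.Hom.comp_apply, ht]
        by_cases hD : t ∈ D
        · right; rw [(hpts t).1.1 hD]; exact hη
        · left; rw [(hpts t).2.1 hD]; exact hcl
      haveI := hpre _ hξ (T.residueField t) (ξ ≫ g) rfl
      have e := (IsPullback.of_hasPullback (f₁ ≫ h₁) ξ).paste_horiz hW
      exact preirreducibleSpace_of_surjective e.isoPullback.inv
    have := isPreirreducible_preimage_of_fibre (f₁ ≫ h₁) ξ
    exact (congrArg (fun u => IsPreirreducible ((f₁ ≫ h₁) ⁻¹' ({u} : Set T))) ht).mp this
  have hDiso : IsIso (f₁ ∣_ (h₁ ⁻¹ᵁ D)) := by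
    rw [← isoOver_opensι, isoOver_baseChange hY hX]
    let F := Spec (CommRingCat.of (S.residueField s'))
    let a : F ⟶ T := Spec.map (CommRingCat.ofHom A.subtype)
    let l : F ⟶ (D : Scheme.{u}) := IsOpenImmersion.lift D.ι a (by
      rw [Scheme.Opens.range_ι]
      rintro _ ⟨z, rfl⟩
      refine (hpts _).1.2 ?_
      exact PrimeSpectrum.ext (by
        rw [show z = (⊥ : PrimeSpectrum (S.residueField s')) from Subsingleton.elim _ _]
        exact (RingHom.injective_iff_ker_eq_bot A.subtype).mp Subtype.val_injective))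
    haveI : Subsingleton (D : Scheme.{u}) := ⟨fun u v => Subtype.ext (((hpts u.1).1.1 u.2).trans ((hpts v.1).1.1 v.2).symm)⟩
    haveI : Surjective l := ⟨fun z => ⟨closedPoint _, Subsingleton.elim _ _⟩⟩
    haveI : IsIntegral (D : Scheme.{u}) := by
      haveI : IsIntegral T := inferInstance
      haveI : Nonempty (D : Scheme.{u}) := ⟨⟨_, (hpts _).1.2 rfl⟩⟩
      exact isIntegral_of_isOpenImmersion D.ι
    haveI : QuasiCompact l := quasiCompact_of_compactSpace l
    haveI : Flat l := inferInstance
    have hl : l ≫ D.ι ≫ g = S.fromSpecResidueField s' := by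
      rw [IsOpenImmersion.lift_fac_assoc]
      exact hgen.trans (Category.comp_id _)
    exact (isoOver_comp_iff l).1 (hl ▸ hiso)
  haveI : IsIso f₁ := by
    refine isIso_of_dvr hϖ f₁ h₁ hDiso ?_ ?_
    · have e : ((f₁ ≫ h₁) ⁻¹ᵁ D : Set ↥(pullback f (pullback.fst h g))) = (f₁ ≫ h₁) ⁻¹' {((⊥ : PrimeSpectrum A) : T)} :=
        Set.ext fun x => (hpts _).1
      rw [e]
      exact hfib _
    · have e : ((f₁ ≫ h₁) ⁻¹ᵁ D : Set ↥(pullback f (pullback.fst h g)))ᶜ = (f₁ ≫ h₁) ⁻¹' {(closedPoint A : T)} :=
        Set.ext fun x => (hpts _).2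
      rw [e]
      exact hfib _
  have hclosed : IsoOver f h (T.fromSpecResidueField (closedPoint A) ≫ g) := by
    rw [← isoOver_baseChange hY hX]
    exact MorphismProperty.pullback_snd (P := MorphismProperty.isomorphisms Scheme) _ _ ‹IsIso f₁›
  let tc : T := (closedPoint A : PrimeSpectrum A)
  have e : (T.fromSpecResidueField tc ≫ g) (closedPoint (T.residueField tc)) =
      S.fromSpecResidueField s (closedPoint (S.residueField s)) := by
    rw [Scheme.Hom.comp_apply, fromSpecResidueField_closed, fromSpecResidueField_closed]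
    exact hcl
  exact (isoOver_iff_of_eq (K := T.residueField tc) (L := S.residueField s) e).1 hclosed

end Groth.Agent.PurIso
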