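import Groth.Agent.MorLib.Birat
import Groth.Agent.CDiv6.Factorial
import Groth.Agent.S2244
import Mathlib.RingTheory.ZariskisMainTheorem
import Mathlib.AlgebraicGeometry.Morphisms.QuasiFinite

/-! Purity of the locus where a birational morphism to a locally factorial scheme fails to be a local
isomorphism. -/

set_option autoImplicit false
set_option backward.isDefEq.respectTransparency false
set_option backward.isDefEq.respectTransparency.types false
set_option linter.style.haveILetI false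
universe u

open CategoryTheory AlgebraicGeometry TopologicalSpace IsLocalRing

noncomputable section

namespace Groth.Agent.PurIso

/-- Being an open immersion near a point. -/
def LocIsoAt {X Y : Scheme.{u}} (g : X ⟶ Y) (x : X) : Prop :=
  ∃ W : X.Opens, x ∈ W ∧ IsOpenImmersion (W.ι ≫ g)

theorem LocIsoAt.generalize {X Y : Scheme.{u}} {g : X ⟶ Y} {x η : X} (h : LocIsoAt g x) (hs : η ⤳ x) :
    LocIsoAt g η := by
  obtain ⟨W, hx, hW⟩ := h
  exact ⟨W, hs.mem_open W.2 hx, hW⟩

theorem isOpen_locIsoAt {X Y : Scheme.{u}} (g : X ⟶ Y) : IsOpen {x : X | LocIsoAt g x} :=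
  isOpen_iff_forall_mem_open.2 fun _ ⟨W, hx, hW⟩ => ⟨W, fun _ hy => ⟨W, hy, hW⟩, W.2, hx⟩

theorem LocIsoAt.isIso_stalkMap {X Y : Scheme.{u}} {g : X ⟶ Y} {x : X} (h : LocIsoAt g x) :
    IsIso (g.stalkMap x) := by
  obtain ⟨W, hx, hW⟩ := h
  have e := Scheme.Hom.stalkMap_comp W.ι g ⟨x, hx⟩
  have hi : IsIso ((W.ι ≫ g).stalkMap ⟨x, hx⟩) := inferInstance
  rw [e] at hi
  exact @IsIso.of_isIso_comp_right _ _ _ _ _ (g.stalkMap x) (W.ι.stalkMap ⟨x, hx⟩) inferInstance hi

theorem locIsoAt_of_isIso_stalkMap {X Y : Scheme.{u}} [IsIntegral Y] (g : X ⟶ Y) [LocallyOfFiniteType g]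
    {x : X} (h : IsIso (g.stalkMap x)) : LocIsoAt g x := by
  obtain ⟨V₀, hV₀, hyV, -⟩ := exists_isAffineOpen_mem_and_subset (x := g x) (U := ⊤) trivial
  obtain ⟨U₀, hU₀, hxU, hUV⟩ := exists_isAffineOpen_mem_and_subset (x := x) (U := g ⁻¹ᵁ V₀) hyV
  haveI : Nonempty (V₀ : Scheme.{u}) := ⟨⟨_, hyV⟩⟩
  obtain ⟨U, V, hle, hx, -, -, hI⟩ := MorLib.Birat.exists_isIso_resLE g h hV₀ hU₀ hUV hxU (Or.inr inferInstance)
  refine ⟨U, hx, ?_⟩
  rw [← Scheme.Hom.resLE_comp_ι g hle]
  infer_instance

/-- The ring theoretic form of purity of the exceptional locus. -/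
theorem bijective_of_localHom {A B : Type u} [CommRing A] [IsDomain A] [UniqueFactorizationMonoid A]
    [CommRing B] [IsDomain B] [IsNoetherianRing B] [IsLocalRing A] [IsLocalRing B] (φ : A →+* B) [IsLocalHom φ]
    (hinj : Function.Injective φ) (hdim : 1 < ringKrullDim B)
    (hq : ∀ q : Ideal B, q.IsPrime → q ≠ maximalIdeal B → ∀ b : B, ∃ a c : A, φ c ∉ q ∧ φ c * b = φ a) :
    Function.Bijective φ := by
  refine ⟨hinj, fun b => ?_⟩
  have hbot : (⊥ : Ideal B) ≠ maximalIdeal B := fun h => by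
    rw [ringKrullDim_eq_zero_of_isField (IsLocalRing.isField_iff_maximalIdeal_eq.2 h.symm)] at hdim
    exact absurd hdim (by decide)
  obtain ⟨a, c, hc, hac⟩ := hq ⊥ Ideal.isPrime_bot hbot b
  have hc0 : c ≠ 0 := fun h => hc (by rw [h, map_zero]; exact zero_mem _)
  obtain ⟨a', c', d, hrel, rfl, rfl⟩ := UniqueFactorizationMonoid.exists_reduced_factors' a c hc0
  have hd : φ d ≠ 0 := fun h => hc (by rw [map_mul, h, zero_mul]; exact zero_mem _)
  have hac' : φ c' * b = φ a' := mul_left_cancel₀ hd (by rw [← mul_assoc, ← map_mul, hac, map_mul])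
  by_cases hu : IsUnit c'
  · obtain ⟨v, rfl⟩ := hu
    refine ⟨a' * (v⁻¹ : Aˣ), ?_⟩
    rw [map_mul, ← hac', mul_right_comm, ← map_mul, Units.mul_inv, map_one, one_mul]
  exfalso
  have hne : Ideal.span {φ c'} ≠ ⊤ := by
    rw [Ne, Ideal.span_singleton_eq_top]
    exact fun h => hu (IsLocalHom.map_nonunit (f := φ) _ h)
  obtain ⟨q, hqmin⟩ := Ideal.nonempty_minimalPrimes hne
  haveI : q.IsPrime := hqmin.1.1
  haveI : (Ideal.span {φ c'}).IsPrincipal := ⟨φ c', rfl⟩
  have hq1 : q.height ≤ 1 := Ideal.height_le_one_of_isPrincipal_of_mem_minimalPrimes _ q hqmin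
  have hqm : q ≠ maximalIdeal B := fun h => by
    rw [← IsLocalRing.maximalIdeal_height_eq_ringKrullDim, ← h] at hdim
    exact absurd hdim (not_lt.2 (WithBot.coe_le_coe.2 hq1))
  let p := q.comap φ
  have hcp : c' ∈ p := hqmin.1.2 (Ideal.mem_span_singleton_self _)
  have hap : a' ∈ p := by
    show φ a' ∈ q
    rw [← hac']
    exact q.mul_mem_right _ hcp
  letI : Algebra A (Localization.AtPrime q) := ((algebraMap B (Localization.AtPrime q)).comp φ).toAlgebra
  haveI : IsLocalization.AtPrime (Localization.AtPrime q) p := by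
    refine (isLocalization_iff _ _).2 ⟨?_, ?_, fun {x y} h => ?_⟩
    · rintro ⟨y, hy⟩
      exact IsLocalization.map_units (M := q.primeCompl) (Localization.AtPrime q) ⟨φ y, hy⟩
    · intro z
      obtain ⟨⟨x, t⟩, hxt⟩ := IsLocalization.surj q.primeCompl z
      obtain ⟨a₁, c₁, hc₁, h₁⟩ := hq q inferInstance hqm x
      obtain ⟨a₂, c₂, hc₂, h₂⟩ := hq q inferInstance hqm (t : B)
      have ha₂ : φ a₂ ∉ q := fun h => by
        rw [← h₂] at h
        exact ((Ideal.IsPrime.mem_or_mem ‹q.IsPrime› h).elim hc₂ t.2)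
      refine ⟨⟨a₁ * c₂, ⟨c₁ * a₂, fun h => ?_⟩⟩, ?_⟩
      · change φ (c₁ * a₂) ∈ q at h
        rw [map_mul] at h
        exact (Ideal.IsPrime.mem_or_mem ‹q.IsPrime› h).elim hc₁ ha₂
      · show z * algebraMap B _ (φ (c₁ * a₂)) = algebraMap B _ (φ (a₁ * c₂))
        rw [map_mul φ, map_mul φ, ← h₁, ← h₂]
        simp only [map_mul]
        rw [← hxt]
        ring
    · exact ⟨1, by rw [hinj (IsLocalization.injective (Localization.AtPrime q) q.primeCompl_le_nonZeroDivisors h)]⟩
  have hp1 : p.height ≤ 1 := by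
    have h1 : ringKrullDim (Localization.AtPrime q) = p.height :=
      IsLocalization.AtPrime.ringKrullDim_eq_height p _
    rw [IsLocalization.AtPrime.ringKrullDim_eq_height q] at h1
    exact (WithBot.coe_inj.1 h1) ▸ hq1
  have hp0 : p ≠ ⊥ := fun h => by
    have : c' = 0 := (Submodule.mem_bot A).1 (h ▸ hcp)
    exact hc0 (by rw [this, mul_zero])
  obtain ⟨π, hπp, hπ⟩ := (UniqueFactorizationMonoid.iff_exists_prime_mem_of_isPrime.1 inferInstance) p hp0 inferInstance
  haveI : (Ideal.span {π}).IsPrime := (Ideal.span_singleton_prime hπ.ne_zero).2 hπ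
  have e : Ideal.span {π} = p := CDiv6.eq_of_le_of_height_one
    (fun h => hπ.ne_zero (Ideal.span_singleton_eq_bot.1 h)) ((Ideal.span_singleton_le_iff_mem p).2 hπp)
    (CDiv6.height_eq_one_of_prime hp0 hp1)
  rw [← e, Ideal.mem_span_singleton] at hap hcp
  exact hπ.not_unit (hrel hap hcp)

theorem stalkSpecializes_injective {X : Scheme.{u}} [IsIntegral X] {x y : X} (h : y ⤳ x) :
    Function.Injective (X.presheaf.stalkSpecializes h) := fun a b hab => by
  refine IsFractionRing.injective (X.presheaf.stalk x) X.functionField ?_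
  rw [← CDiv6.algebraMap_specializes h, ← CDiv6.algebraMap_specializes h, hab]

/-- Purity: a point maximal among those where a birational morphism to a locally factorial scheme fails to be a
local isomorphism has codimension one. -/
theorem ringKrullDim_eq_one_of_maximal {X Y : Scheme.{u}} [IsIntegral X] [IsLocallyNoetherian X] [IsIntegral Y]
    (g : X ⟶ Y) [LocallyOfFiniteType g]
    (hY : ∀ y : ↥Y, UniqueFactorizationMonoid (Y.presheaf.stalk y))
    (hV : ∃ W : X.Opens, (W : Set ↥X).Nonempty ∧ IsOpenImmersion (W.ι ≫ g))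
    (ξ : ↥X) (hξ : ¬ LocIsoAt g ξ) (hmax : ∀ η : ↥X, ¬ LocIsoAt g η → η ⤳ ξ → η = ξ) :
    ringKrullDim (X.presheaf.stalk ξ) = 1 := by
  have hgen : LocIsoAt g (genericPoint ↥X) := by
    obtain ⟨W, hW, hoi⟩ := hV
    exact ⟨W, ((genericPoint_spec ↥X).mem_open_set_iff W.2).2 (by simpa using hW), hoi⟩
  have hne : ¬ IsField (X.presheaf.stalk ξ) := fun hF => by
    refine hξ ?_
    have h1 : ξ = genericPoint ↥X := by
      have h2 : CDiv6.primeOf (genericPoint_specializes ξ) = CDiv6.primeOf (specializes_rfl : ξ ⤳ ξ) := by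
        refine PrimeSpectrum.ext ?_
        letI := hF.toField
        rw [(Ideal.eq_bot_or_top _).resolve_right (CDiv6.primeOf (genericPoint_specializes ξ)).isPrime.ne_top,
          (Ideal.eq_bot_or_top _).resolve_right (CDiv6.primeOf (specializes_rfl : ξ ⤳ ξ)).isPrime.ne_top]
      have h3 := congrArg (X.fromSpecStalk ξ) h2
      rwa [CDiv6.fromSpecStalk_primeOf, CDiv6.fromSpecStalk_primeOf, eq_comm] at h3
    exact h1 ▸ hgen
  refine le_antisymm ?_ ?_
  · by_contra hdim
    refine hξ (locIsoAt_of_isIso_stalkMap g ((ConcreteCategory.isIso_iff_bijective _).2 ?_))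
    haveI := hY (g ξ)
    have hginj : Function.Injective (g.stalkMap ξ) := by
      intro a b hab
      haveI := hgen.isIso_stalkMap
      refine stalkSpecializes_injective ((genericPoint_specializes ξ).map g.continuous) ?_
      refine (ConcreteCategory.bijective_of_isIso (g.stalkMap (genericPoint ↥X))).1 ?_
      have e := fun z => congr(($(Scheme.Hom.stalkSpecializes_stalkMap g (genericPoint ↥X) ξ
        (genericPoint_specializes ξ))).hom z)
      exact ((e a).trans (congrArg (X.presheaf.stalkSpecializes _) hab)).trans (e b).symm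
    refine bijective_of_localHom (g.stalkMap ξ).hom hginj (not_le.1 hdim) fun q hq hqm b => ?_
    let η : X := X.fromSpecStalk ξ ⟨q, hq⟩
    have hs : η ⤳ ξ := CDiv6.fromSpecStalk_specializes _
    have hprime : CDiv6.primeOf hs = ⟨q, hq⟩ := CDiv6.primeOf_fromSpecStalk _
    have hηne : η ≠ ξ := fun h => hqm (by
      have h2 := congrArg PrimeSpectrum.asIdeal ((X.fromSpecStalk ξ).isEmbedding.injective
        (show X.fromSpecStalk ξ ⟨q, hq⟩ = X.fromSpecStalk ξ (closedPoint _) by
          rw [Scheme.fromSpecStalk_closedPoint]; exact h))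
      exact h2)
    have hη : LocIsoAt g η := by
      by_contra h
      exact hηne (hmax η h hs)
    haveI := hη.isIso_stalkMap
    obtain ⟨z, hz⟩ := (ConcreteCategory.bijective_of_isIso (g.stalkMap η)).2 (X.presheaf.stalkSpecializes hs b)
    obtain ⟨V, hV, hyV, -⟩ := exists_isAffineOpen_mem_and_subset (x := g ξ) (U := ⊤) trivial
    have hηV : g η ∈ V := (hs.map g.continuous).mem_open V.2 hyV
    letI := Y.presheaf.algebra_section_stalk (U := V) ⟨g η, hηV⟩
    have := hV.isLocalization_stalk ⟨g η, hηV⟩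
    obtain ⟨⟨a, c⟩, hac⟩ := IsLocalization.surj (hV.primeIdealOf ⟨g η, hηV⟩).asIdeal.primeCompl z
    refine ⟨Y.presheaf.germ V (g ξ) hyV a, Y.presheaf.germ V (g ξ) hyV c, ?_, ?_⟩
    all_goals
      have key : ∀ w : Γ(Y, V), X.presheaf.stalkSpecializes hs (g.stalkMap ξ (Y.presheaf.germ V (g ξ) hyV w)) =
          g.stalkMap η (Y.presheaf.germ V (g η) hηV w) := fun w => by
        have e := congr(($(Scheme.Hom.stalkSpecializes_stalkMap g η ξ hs)).hom (Y.presheaf.germ V (g ξ) hyV w))
        refine e.symm.trans (congrArg (g.stalkMap η) ?_)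
        exact congr(($(TopCat.Presheaf.germ_stalkSpecializes Y.presheaf hyV (hs.map g.continuous))).hom w)
    · have h1 : IsUnit (X.presheaf.stalkSpecializes hs (g.stalkMap ξ (Y.presheaf.germ V (g ξ) hyV c.1))) := by
        rw [key]
        exact (IsLocalization.map_units (Y.presheaf.stalk (g η)) c).map (g.stalkMap η).hom
      intro h
      have h' : g.stalkMap ξ (Y.presheaf.germ V (g ξ) hyV c.1) ∈ (CDiv6.primeOf hs).asIdeal := by rw [hprime]; exact h
      exact ((CDiv6.mem_primeOf hs _).1 h') h1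
    · refine stalkSpecializes_injective hs ?_
      rw [map_mul, key, key, ← hz, ← map_mul, mul_comm]
      exact congrArg (g.stalkMap η) hac
  · by_contra h
    have h1 : ringKrullDim (X.presheaf.stalk ξ) ≤ 0 := by
      cases hn : ringKrullDim (X.presheaf.stalk ξ) with
      | bot => exact bot_le
      | coe n =>
        rw [hn] at h
        exact_mod_cast (ENat.lt_one_iff_eq_zero.1 (WithBot.coe_lt_coe.1 (not_le.1 h))).le
    haveI : Ring.KrullDimLE 0 (X.presheaf.stalk ξ) := Ring.krullDimLE_iff.2 h1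
    exact hne (Ring.KrullDimLE.isField_of_isDomain)

/-- A morphism that is a local isomorphism in codimension one onto a locally factorial scheme is a local
isomorphism. -/
theorem locIsoAt_of_codim_one {X Y : Scheme.{u}} [IsIntegral X] [IsLocallyNoetherian X] [IsIntegral Y]
    (g : X ⟶ Y) [LocallyOfFiniteType g]
    (hY : ∀ y : ↥Y, UniqueFactorizationMonoid (Y.presheaf.stalk y))
    (hV : ∃ W : X.Opens, (W : Set ↥X).Nonempty ∧ IsOpenImmersion (W.ι ≫ g))
    (h1 : ∀ x : ↥X, ringKrullDim (X.presheaf.stalk x) = 1 → LocIsoAt g x) (x : X) : LocIsoAt g x := by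
  by_contra hx
  let E : Set X := {x : X | LocIsoAt g x}ᶜ
  have hE : IsClosed E := (isOpen_locIsoAt g).isClosed_compl
  obtain ⟨Z, hZ, hxZ, hZmax⟩ : ∃ Z : Set E, IsIrreducible Z ∧ (⟨x, hx⟩ : E) ∈ Z ∧ Z ∈ irreducibleComponents E :=
    ⟨irreducibleComponent _, isIrreducible_irreducibleComponent, mem_irreducibleComponent,
      irreducibleComponent_mem_irreducibleComponents _⟩
  haveI : QuasiSober E := Topology.IsClosedEmbedding.quasiSober hE.isClosedEmbedding_subtypeVal
  obtain ⟨ξ, hξ⟩ := QuasiSober.sober hZ (isClosed_of_mem_irreducibleComponents Z hZmax)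
  refine ξ.2 (h1 ξ.1 (ringKrullDim_eq_one_of_maximal g hY hV ξ.1 ξ.2 fun η hη hs => ?_))
  have hs' : (⟨η, hη⟩ : E) ⤳ ξ := (subtype_specializes_iff _ _).2 hs
  have hle : Z ≤ closure {(⟨η, hη⟩ : E)} := by
    rw [← hξ.def]
    exact closure_minimal (Set.singleton_subset_iff.2 hs'.mem_closure) isClosed_closure
  have h2 : (⟨η, hη⟩ : E) ∈ Z := hZmax.2 isIrreducible_singleton.closure hle (subset_closure rfl)
  exact congrArg Subtype.val (((hξ.specializes h2).antisymm hs').eq).symm

/-- A birational morphism is a local isomorphism where it is quasi-finite, if the target is normal there. -/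
theorem locIsoAt_of_quasiFiniteAt {X Y : Scheme.{u}} [IsIntegral X] [IsIntegral Y] (g : X ⟶ Y)
    [LocallyOfFiniteType g] (hgen : LocIsoAt g (genericPoint ↥X)) (x : X)
    [IsIntegrallyClosed (Y.presheaf.stalk (g x))] (hx : g.QuasiFiniteAt x) : LocIsoAt g x := by
  refine locIsoAt_of_isIso_stalkMap g ((ConcreteCategory.isIso_iff_bijective _).2 ?_)
  haveI := hgen.isIso_stalkMap
  let A := Y.presheaf.stalk (g x)
  let B := X.presheaf.stalk x
  let φ : A →+* B := (g.stalkMap x).hom
  have hs := genericPoint_specializes x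
  let σA := Y.presheaf.stalkSpecializes (hs.map g.continuous)
  let σB := X.presheaf.stalkSpecializes hs
  let L := X.presheaf.stalk (genericPoint ↥X)
  let ψ := g.stalkMap (genericPoint ↥X)
  have hψ := ConcreteCategory.bijective_of_isIso ψ
  have hnat : ∀ a, ψ (σA a) = σB (φ a) := fun a =>
    congr(($(Scheme.Hom.stalkSpecializes_stalkMap g (genericPoint ↥X) x hs)).hom a)
  have hinjA : Function.Injective σA := stalkSpecializes_injective _
  have hinjB : Function.Injective σB := stalkSpecializes_injective _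
  have hinj : Function.Injective φ := fun a a' h => hinjA (hψ.1 (by rw [hnat, hnat, h]))
  refine ⟨hinj, ?_⟩
  -- elements integral over `A` come from `A`
  have hint : ∀ b : B, φ.IsIntegralElem b → b ∈ φ.range := by
    intro b hb
    obtain ⟨z, hz⟩ := hψ.2 (σB b)
    obtain ⟨p, hp, hp0⟩ := hb
    have hz' : σA.hom.IsIntegralElem z := by
      refine ⟨p, hp, hψ.1 ?_⟩
      rw [map_zero, Polynomial.hom_eval₂, hz, show ψ.hom.comp σA.hom = σB.hom.comp φ from RingHom.ext hnat,
        ← Polynomial.hom_eval₂, hp0, map_zero]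
    obtain ⟨a, ha⟩ : ∃ a, σA a = z := by
      let τ : Y.presheaf.stalk (g (genericPoint ↥X)) →+* Y.functionField :=
        algebraMap (Y.presheaf.stalk (g (genericPoint ↥X))) Y.functionField
      have hτ : Function.Injective τ := IsFractionRing.injective _ _
      have hcomp : τ.comp σA.hom = algebraMap A Y.functionField := RingHom.ext fun a =>
        CDiv6.algebraMap_specializes _ a
      have hint' : IsIntegral A (τ z) := by
        obtain ⟨p, hp, hp0⟩ := hz'
        refine ⟨p, hp, ?_⟩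
        rw [← hcomp, ← Polynomial.hom_eval₂, hp0, map_zero]
      obtain ⟨a, ha⟩ := IsIntegrallyClosed.isIntegral_iff.1 hint'
      exact ⟨a, hτ ((CDiv6.algebraMap_specializes _ a).trans ha)⟩
    exact ⟨a, hinjB (by rw [← hnat, ha, hz])⟩
  -- Zariski's main theorem
  obtain ⟨V, hV, hyV, -⟩ := exists_isAffineOpen_mem_and_subset (x := g x) (U := ⊤) trivial
  obtain ⟨U, hU, hxU, hUV⟩ := exists_isAffineOpen_mem_and_subset (x := x) (U := g ⁻¹ᵁ V) hyV
  letI : Algebra Γ(Y, V) Γ(X, U) := (g.appLE V U hUV).hom.toAlgebra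
  haveI : Algebra.FiniteType Γ(Y, V) Γ(X, U) := g.finiteType_appLE hV hU hUV
  let q := (hU.primeIdealOf ⟨x, hxU⟩).asIdeal
  haveI : Algebra.QuasiFiniteAt Γ(Y, V) q := hx.quasiFiniteAt hU hV hUV hxU
  obtain ⟨r, hrq, hr, hrm⟩ := (Algebra.zariskisMainProperty_iff (R := Γ(Y, V)) (p := q)).1
    (Algebra.ZariskisMainProperty.of_finiteType q)
  let γ : Γ(X, U) →+* B := (X.presheaf.germ U x hxU).hom
  have hγ : γ.comp (g.appLE V U hUV).hom = φ.comp (Y.presheaf.germ V (g x) (hUV hxU)).hom := by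
    refine RingHom.ext fun w => ?_
    show X.presheaf.germ U x hxU ((g.appLE V U hUV).hom w) = g.stalkMap x (Y.presheaf.germ V (g x) (hUV hxU) w)
    rw [Scheme.Hom.germ_stalkMap_apply, Scheme.Hom.appLE]
    exact X.presheaf.germ_res_apply (homOfLE hUV) x hxU _
  have hγint : ∀ c, IsIntegral Γ(Y, V) c → γ c ∈ φ.range := fun c hc => by
    obtain ⟨p, hp, hp0⟩ := hc
    refine hint _ ⟨p.map (Y.presheaf.germ V (g x) (hUV hxU)).hom, hp.map _, ?_⟩
    rw [Polynomial.eval₂_map, ← hγ, ← Polynomial.hom_eval₂]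
    exact (congrArg γ hp0).trans (map_zero γ)
  letI := X.presheaf.algebra_section_stalk (U := U) ⟨x, hxU⟩
  have := hU.isLocalization_stalk ⟨x, hxU⟩
  intro b
  obtain ⟨⟨b', t⟩, hbt⟩ := IsLocalization.surj q.primeCompl b
  obtain ⟨m₁, hm₁⟩ := hrm b'
  obtain ⟨m₂, hm₂⟩ := hrm t.1
  obtain ⟨a₁, ha₁⟩ := hγint _ hm₁
  obtain ⟨a₂, ha₂⟩ := hγint _ hm₂
  obtain ⟨a₃, ha₃⟩ := hγint r hr
  have hru : IsUnit (γ r) := IsLocalization.map_units (M := q.primeCompl) B ⟨r, hrq⟩
  have hu : IsUnit (a₂ * a₃ ^ m₁) := by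
    refine isUnit_of_map_unit φ _ ?_
    rw [map_mul, map_pow, ha₂, ha₃, map_mul, map_pow]
    exact ((hru.pow _).mul (IsLocalization.map_units (M := q.primeCompl) B t)).mul (hru.pow _)
  obtain ⟨v, hv⟩ := hu
  refine ⟨(v⁻¹ : Aˣ) * (a₁ * a₃ ^ m₂), ?_⟩
  apply (v.isUnit.map φ).mul_left_cancel
  rw [← map_mul, Units.mul_inv_cancel_left, hv, map_mul φ, map_mul φ, map_pow, map_pow, ha₁, ha₂, ha₃]
  rw [map_mul γ, map_mul γ, map_pow, map_pow, show γ b' = b * γ t.1 from hbt.symm]
  ring

end Groth.Agent.PurIso
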