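import Groth.Agent.PurIso.IsoOver
import Groth.Agent.ConsPropLib.NoethApprox
import Groth.Agent.ConsPropLib.CoreProper
import Groth.Agent.LimSm.Flat
import Groth.Agent.LimSm.Core
import Groth.Agent.S0591

/-! The iso locus of a morphism of smooth type is stable under specialisation. -/

set_option autoImplicit false
set_option backward.isDefEq.respectTransparency false
set_option backward.isDefEq.respectTransparency.types false
set_option linter.style.haveILetI false
universe u

open CategoryTheory CategoryTheory.Limits AlgebraicGeometry TopologicalSpace IsLocalRing Groth.Agent.MorLib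

noncomputable section

namespace Groth.Agent.PurIso

theorem exists_noetherian_model_proper_smooth {R : CommRingCat.{u}} {X Y : Scheme.{u}} (f : X ⟶ Y)
    (h : Y ⟶ Spec R) [IsAffine Y] [Smooth h] [IsProper f] [Flat (f ≫ h)] [LocallyOfFinitePresentation (f ≫ h)] :
    ∃ (S₀ X₀ Y₀ : Scheme.{u}) (f₀ : X₀ ⟶ Y₀) (h₀ : Y₀ ⟶ S₀) (π : Spec R ⟶ S₀) (qY : Y ⟶ Y₀) (qX : X ⟶ X₀),
      IsNoetherian S₀ ∧ Smooth h₀ ∧ IsProper f₀ ∧ Flat (f₀ ≫ h₀) ∧
      IsPullback qY h h₀ π ∧ IsPullback qX f f₀ qY := by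
  classical
  haveI : LocallyOfFinitePresentation f := AlgSpPts.locallyOfFinitePresentation_of_comp f h
  haveI : QuasiCompact h := quasiCompact_of_compactSpace h
  haveI : QuasiSeparated h := QuasiSeparated.of_comp h (terminal.from _)
  let D := ConsPropLib.NoethApprox.diagram R
  let c := ConsPropLib.NoethApprox.cone R
  let hc : IsLimit c := ConsPropLib.NoethApprox.isLimit R
  haveI : ∀ {i j} (φ : i ⟶ j), IsAffineHom (D.map φ) := fun φ => ConsPropLib.NoethApprox.isAffineHom_map R φ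
  haveI : ∀ (i j) (φ : i ⟶ j), IsAffineHom (D.map φ) := fun i j φ => ConsPropLib.NoethApprox.isAffineHom_map R φ
  haveI : ∀ i, IsAffine (D.obj i) := fun i => ConsPropLib.NoethApprox.isAffine_obj R i
  obtain ⟨i₀, Y₀, h₀, q₀, hlfp, hqc, hqs, hsq⟩ := Groth.Agent.S0591.result D c hc Y h
  haveI := hlfp; haveI := hqc; haveI := hqs
  obtain ⟨i₁, φ₁, hsm⟩ := Desc.descend D c hc i₀ (P := @Smooth) (Q := @LocallyOfFinitePresentation)
    LimSm.core_smooth h₀ inferInstance
    (Desc.of_two @Smooth hsq (IsPullback.of_hasPullback _ _) (inferInstanceAs (Smooth h)))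
  let mY := (ConsPropLib.IsModel.mk (c := c) (f := h) hlfp hqc hqs hsq).pushed φ₁
  let h₁ := pullback.snd h₀ (D.map φ₁)
  haveI : Smooth h₁ := hsm
  haveI : QuasiCompact h₁ := mY.qc
  haveI : QuasiSeparated h₁ := mY.qs
  haveI : CompactSpace ↥(pullback h₀ (D.map φ₁)) := QuasiCompact.compactSpace_of_compactSpace h₁
  haveI : QuasiSeparatedSpace ↥(pullback h₀ (D.map φ₁)) := quasiSeparatedSpace_of_quasiSeparated h₁
  let T' := BC.diag D h₁
  let c' : Cone T' := BC.cone D h₁ (c := c) mY.sq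
  have hc' : IsLimit c' := BC.isLimitCone D h₁ (c := c) mY.sq hc
  haveI : ∀ (a b : Over i₁) (φ : a ⟶ b), IsAffineHom (T'.map φ) := fun a b φ => BC.isAffineHom_map D h₁ φ
  haveI : ∀ {a b : Over i₁} (φ : a ⟶ b), IsAffineHom (T'.map φ) := fun φ => BC.isAffineHom_map D h₁ φ
  haveI : ∀ b, CompactSpace (T'.obj b) := fun b => BC.compactSpace_obj D h₁ b
  haveI : ∀ b, QuasiSeparatedSpace (T'.obj b) := fun b => BC.quasiSeparatedSpace_obj D h₁ b
  obtain ⟨b₀, X₀, f₀, g₀, hlfp', hqc', hqs', hsq'⟩ := Groth.Agent.S0591.result T' c' hc' X f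
  haveI := hlfp'; haveI := hqc'; haveI := hqs'
  obtain ⟨b₁, ψ₁, hpr⟩ := Desc.descend T' c' hc' b₀ (P := @IsProper) (Q := @LocallyOfFinitePresentation)
    ConsPropLib.core_isProper f₀ inferInstance
    (Desc.of_two @IsProper hsq' (IsPullback.of_hasPullback _ _) (inferInstanceAs (IsProper f)))
  let mX := (ConsPropLib.IsModel.mk (c := c') (f := f) hlfp' hqc' hqs' hsq').pushed ψ₁
  let f₁ := pullback.snd f₀ (T'.map ψ₁)
  haveI : IsProper f₁ := hpr
  haveI : LocallyOfFinitePresentation f₁ := mX.lfp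
  let hb : T'.obj b₁ ⟶ D.obj b₁.left := pullback.snd h₁ (D.map b₁.hom)
  haveI : Smooth hb := MorphismProperty.pullback_snd _ _ hsm
  haveI : QuasiCompact hb := MorphismProperty.pullback_snd _ _ mY.qc
  haveI : QuasiSeparated hb := MorphismProperty.pullback_snd _ _ mY.qs
  let w : _ ⟶ D.obj b₁.left := f₁ ≫ hb
  haveI : LocallyOfFinitePresentation w := inferInstanceAs (LocallyOfFinitePresentation (f₁ ≫ hb))
  haveI : QuasiCompact w := inferInstanceAs (QuasiCompact (f₁ ≫ hb))
  haveI : QuasiSeparated w := inferInstanceAs (QuasiSeparated (f₁ ≫ hb))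
  have hw : IsPullback _ (f ≫ h) w (c.π.app b₁.left) := mX.sq.paste_vert (BC.isPullback_proj D h₁ (c := c) mY.sq b₁)
  obtain ⟨n, ψ, hn⟩ := Desc.descend D c hc b₁.left (P := @Flat) (Q := @LocallyOfFinitePresentation)
    LimSm.core_flat w inferInstance (Desc.of_two @Flat hw (IsPullback.of_hasPullback _ _) inferInstance)
  let j : Over i₁ := Over.mk (ψ ≫ b₁.hom)
  let φ : j ⟶ b₁ := Over.homMk ψ rfl
  let mX' := mX.pushed φ
  let fn := pullback.snd f₁ (T'.map φ)
  let hn' : T'.obj j ⟶ D.obj n := pullback.snd h₁ (D.map j.hom)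
  refine ⟨D.obj n, _, T'.obj j, fn, hn', c.π.app n, c'.π.app j, _,
    ConsPropLib.NoethApprox.isNoetherian_obj R n, MorphismProperty.pullback_snd _ _ hsm,
    MorphismProperty.pullback_snd _ _ hpr, ?_, BC.isPullback_proj D h₁ (c := c) mY.sq j, mX'.sq⟩
  exact Desc.of_two @Flat (IsPullback.of_hasPullback w (D.map ψ))
    ((IsPullback.of_hasPullback f₁ (T'.map φ)).paste_vert (BC.isPullback_map D h₁ φ)) hn

/-- Over an affine base and an affine target, the iso locus is stable under specialisation. -/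
theorem isoOver_specializes_affine {R : CommRingCat.{u}} {X Y : Scheme.{u}} (f : X ⟶ Y)
    (h : Y ⟶ Spec R) [IsAffine Y] [Smooth h] [IsProper f] [Flat (f ≫ h)] [LocallyOfFinitePresentation (f ≫ h)]
    (hpre : GeomPre (f ≫ h)) {s s' : Spec R} (hs : s' ⤳ s)
    (hiso : IsoOver f h ((Spec R).fromSpecResidueField s')) : IsoOver f h ((Spec R).fromSpecResidueField s) := by
  obtain ⟨S₀, X₀, Y₀, f₀, h₀, π, qY, qX, hS₀, hsm, hpr, hfl, hY, hX⟩ := exists_noetherian_model_proper_smooth f h
  haveI := hsm; haveI := hpr; haveI := hfl; haveI := hS₀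
  have hpt : ∀ t : Spec R, IsoOver f h ((Spec R).fromSpecResidueField t) ↔
      IsoOver f₀ h₀ (S₀.fromSpecResidueField (π t)) := fun t => by
    rw [isoOver_baseChange hY hX]
    refine isoOver_iff_of_eq (K := (Spec R).residueField t) (L := S₀.residueField (π t)) ?_
    rw [Scheme.Hom.comp_apply]
    exact (congrArg π (fromSpecResidueField_closed _ t)).trans (fromSpecResidueField_closed _ (π t)).symm
  rw [hpt] at hiso ⊢
  refine isoOver_of_specializes (hs.map π.continuous) hiso fun t ht K _ ξ hξ => ?_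
  rcases ht with rfl | rfl
  · exact preirreducible_fibre_of_baseChange (hX.paste_vert hY) hpre ξ s hξ
  · exact preirreducible_fibre_of_baseChange (hX.paste_vert hY) hpre ξ s' hξ

end Groth.Agent.PurIso
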